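import Mathlib

/-!
A coded model of the wreath product of the dihedral group of order eight by a group of order two:
the element `(a, b, e)` with `a, b` in the dihedral group has code `16 a + 2 b + e`, and `r ^ i f ^ j`
has code `2 i + j`.
-/

set_option autoImplicit false

namespace Cfsg.Agent.Lib.D8Wreath

/-- Multiplication of dihedral codes. -/
def dmul (a b : ℕ) : ℕ :=
  2 * ((a / 2 + (if a % 2 = 0 then b / 2 else 4 - b / 2)) % 4) + (a + b) % 2

/-- Inversion of dihedral codes. -/
def dinv (a : ℕ) : ℕ :=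
  if a % 2 = 0 then 2 * ((4 - a / 2) % 4) else a

/-- Multiplication of codes. -/
def wmul (u v : Fin 128) : Fin 128 :=
  let u0 := u.1 % 2
  let c := if u0 = 0 then v.1 / 16 else v.1 / 2 % 8
  let d := if u0 = 0 then v.1 / 2 % 8 else v.1 / 16
  Fin.ofNat 128 (16 * dmul (u.1 / 16) c + 2 * dmul (u.1 / 2 % 8) d + (u.1 + v.1) % 2)

/-- Inversion of codes. -/
def winv (u : Fin 128) : Fin 128 :=
  let a := dinv (u.1 / 16)
  let b := dinv (u.1 / 2 % 8)
  Fin.ofNat 128 (if u.1 % 2 = 0 then 16 * a + 2 * b else 16 * b + 2 * a + 1)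

/-- The action on eight points. -/
def wact (u : Fin 128) (x : Fin 8) : Fin 8 :=
  let h := (x.1 / 4 + u.1) % 2
  let a := if h = 0 then u.1 / 16 else u.1 / 2 % 8
  let k := x.1 % 4
  Fin.ofNat 8 (4 * h + (a / 2 + (if a % 2 = 0 then k else 4 - k)) % 4)

theorem wact_winv : ∀ (u : Fin 128) (x : Fin 8), wact (winv u) (wact u x) = x ∧ wact u (wact (winv u) x) = x := by
  decide +kernel

theorem wact_wmul : ∀ (u v : Fin 128) (x : Fin 8), wact (wmul u v) x = wact u (wact v x) := by
  decide +kernel

/-- Equality of codes by the images of three points. -/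
theorem wact_eq_one : ∀ u : Fin 128, (∀ x : Fin 8, wact u x = x) → u = 0 := by
  decide +kernel

theorem wone : ∀ u : Fin 128, wmul 0 u = u ∧ wmul (winv u) u = 0 ∧ wmul u 0 = u ∧ wmul u (winv u) = 0 := by
  decide +kernel

/-- The permutation of eight points attached to a code. -/
def wperm (u : Fin 128) : Equiv.Perm (Fin 8) :=
  ⟨wact u, wact (winv u), fun x => (wact_winv u x).1, fun x => (wact_winv u x).2⟩

theorem wperm_wmul (u v : Fin 128) : wperm (wmul u v) = wperm u * wperm v :=
  Equiv.ext fun x => wact_wmul u v x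

theorem wmul_winv_cancel : ∀ u v : Fin 128, wmul v (wmul (winv v) u) = u := by
  decide +kernel

theorem wperm_injective : Function.Injective wperm := by
  intro u v h
  have h0 : wperm (0 : Fin 128) = 1 := by
    have := wperm_wmul 0 0
    rw [(wone 0).1] at this
    exact left_eq_mul.1 this
  have h1 : wperm (wmul (winv v) u) = 1 := by
    rw [wperm_wmul, h, ← wperm_wmul, (wone v).2.1, h0]
  have h2 := wact_eq_one _ fun x => Equiv.ext_iff.1 h1 x
  have h3 : wmul v (wmul (winv v) u) = u := wmul_winv_cancel u v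
  rw [h2, (wone v).2.2.1] at h3
  exact h3.symm

theorem wmul_assoc (u v w : Fin 128) : wmul (wmul u v) w = wmul u (wmul v w) :=
  wperm_injective (by simp only [wperm_wmul, mul_assoc])

/-- The model group. -/
def W : Type := Fin 128

instance : Fintype W := inferInstanceAs (Fintype (Fin 128))
instance : DecidableEq W := inferInstanceAs (DecidableEq (Fin 128))

instance : Group W where
  mul := wmul
  one := (0 : Fin 128)
  inv := winv
  mul_assoc := wmul_assoc
  one_mul u := (wone u).1
  mul_one u := (wone u).2.2.1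
  inv_mul_cancel u := (wone u).2.1

/-- The element with a given code. -/
def el (u : Fin 128) : W := u

/-- The code of an element. -/
def co (u : W) : Fin 128 := u

theorem co_mul (u v : W) : co (u * v) = wmul (co u) (co v) := rfl
theorem co_inv (u : W) : co u⁻¹ = winv (co u) := rfl
theorem el_mul (u v : Fin 128) : el (wmul u v) = el u * el v := rfl
theorem el_inv (u : Fin 128) : el (winv u) = (el u)⁻¹ := rfl
theorem el_zero : el 0 = 1 := rfl
theorem el_co (u : W) : el (co u) = u := rfl
theorem co_el (u : Fin 128) : co (el u) = u := rfl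
theorem co_one : co 1 = 0 := rfl

theorem card_W : Nat.card W = 128 := by
  rw [Nat.card_eq_fintype_card]; rfl

/-- The model is a Sylow 2-subgroup of the symmetric group of degree eight. -/
theorem exists_sylow_equiv : ∃ T : Sylow 2 (Equiv.Perm (Fin 8)), Nonempty (W ≃* ↥(T : Subgroup (Equiv.Perm (Fin 8)))) := by
  let f : W →* Equiv.Perm (Fin 8) := MonoidHom.mk' wperm wperm_wmul
  have hc : Nat.card f.range = 128 := by
    rw [← card_W]; exact (Nat.card_congr (MonoidHom.ofInjective (f := f) wperm_injective).toEquiv).symm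
  have : Fact (Nat.Prime 2) := ⟨Nat.prime_two⟩
  have hp : IsPGroup 2 f.range := IsPGroup.of_card (n := 7) (by rw [hc]; norm_num)
  refine ⟨Sylow.ofCard f.range ?_, ⟨(MonoidHom.ofInjective (f := f) wperm_injective).trans (MulEquiv.subgroupCongr rfl)⟩⟩
  rw [hc, Nat.card_perm, Nat.card_eq_fintype_card, Fintype.card_fin]
  decide +kernel

theorem nonempty_equiv_sylow (T : Sylow 2 (Equiv.Perm (Fin 8))) :
    Nonempty (W ≃* ↥(T : Subgroup (Equiv.Perm (Fin 8)))) := by
  obtain ⟨T₀, ⟨e⟩⟩ := exists_sylow_equiv
  exact ⟨e.trans (Sylow.equiv T₀ T)⟩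

end Cfsg.Agent.Lib.D8Wreath
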