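import Mathlib
import Cfsg.Agent.Lib.D8Wreath.Model

/-!
Computations in the coded wreath product and in its extensions by an element of order two modulo it.
-/

set_option autoImplicit false
set_option maxRecDepth 100000

namespace Cfsg.Agent.Lib.D8Wreath

theorem of_all {α : Type*} {l : List α} {q : α → Prop} [∀ a, Decidable (q a)]
    (h : (l.all fun a => decide (q a)) = true) : ∀ a ∈ l, q a := fun a ha =>
  of_decide_eq_true (List.all_eq_true.1 h a ha)

/-- Conjugation of codes. -/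
def wconj (h u : Fin 128) : Fin 128 := wmul (wmul h u) (winv h)

/-- Powers of codes, for exponents below four. -/
def wpow (u : Fin 128) : ℕ → Fin 128
  | 0 => 0
  | n + 1 => wmul (wpow u n) u

/-- The word `R ^ i F ^ j (T R ^ k F ^ l T) T ^ e` for the code of `(r ^ i f ^ j, r ^ k f ^ l, e)`. -/
def wordC (R F T u : Fin 128) : Fin 128 :=
  wmul (wmul (wmul (wpow R (u.1 / 32)) (wpow F (u.1 / 16 % 2)))
    (wmul (wmul T (wmul (wpow R (u.1 / 4 % 4)) (wpow F (u.1 / 2 % 2)))) T)) (wpow T (u.1 % 2))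

/-- The code of the central involution. -/
def zc : Fin 128 := 72

/-- Representatives of the outer automorphism classes, by the images of the three generators `32, 16, 1`. -/
def reps : List (Fin 128 × Fin 128 × Fin 128) :=
  [(32, 16, 1), (40, 16, 1), (4, 66, 1), (68, 66, 1), (32, 48, 1), (40, 48, 1), (4, 70, 1), (68, 70, 1)]

/-- The extensions: an automorphism with the square `y` of the new element. -/
def exts : List ((Fin 128 × Fin 128 × Fin 128) × Fin 128) :=
  [((32, 16, 1), 0), ((32, 16, 1), 72), ((40, 16, 1), 0), ((40, 16, 1), 72), ((4, 66, 1), 0), ((4, 66, 1), 72),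
    ((68, 66, 1), 0), ((68, 66, 1), 72), ((32, 48, 1), 36), ((32, 48, 1), 108), ((4, 70, 1), 36), ((4, 70, 1), 108)]

/-- The extensions of sectional rank at most four. -/
def swapExts : List ((Fin 128 × Fin 128 × Fin 128) × Fin 128) :=
  [((32, 48, 1), 36), ((32, 48, 1), 108), ((4, 70, 1), 36), ((4, 70, 1), 108)]

theorem word_gens : ∀ u : Fin 128, wordC 32 16 1 u = u := by
  decide +kernel

/-- Involutions and the identity. -/
def invL : List (Fin 128) := (List.finRange 128).filter fun a => decide (wmul a a = 0)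

/-- Representatives of the classes of elements of order four. -/
def classL : List (Fin 128) := [3, 32, 7, 9, 20, 36, 38, 68]

theorem exists_class : ∀ R : Fin 128, wmul R R ≠ 0 → wmul (wmul R R) (wmul R R) = 0 →
    ∃ h : Fin 128, wconj h R ∈ classL := by
  decide +kernel

/-- Images of the generators under an automorphism, up to an inner one. -/
theorem rel_reps : ∀ R ∈ classL, ∀ F ∈ invL, wmul (wmul F R) (wmul F R) = 0 → ∀ T ∈ invL,
    wmul R (wmul (wmul T R) T) = wmul (wmul (wmul T R) T) R →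
    wmul F (wmul (wmul T F) T) = wmul (wmul (wmul T F) T) F →
    wmul R (wmul (wmul T F) T) = wmul (wmul (wmul T F) T) R →
    wmul (wmul R R) (wmul (wmul T (wmul R R)) T) = zc →
    ∃ h : Fin 128, (wconj h R, wconj h F, wconj h T) ∈ reps := by
  decide +kernel

theorem mem_invL {a : Fin 128} (h : wmul a a = 0) : a ∈ invL :=
  List.mem_filter.2 ⟨List.mem_finRange a, decide_eq_true h⟩

/-- The possible squares of the new element. -/
theorem reps_exts : ∀ ρ ∈ reps, ∀ y : Fin 128, wordC ρ.1 ρ.2.1 ρ.2.2 y = y →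
    (∀ g ∈ ([32, 16, 1] : List (Fin 128)),
      wordC ρ.1 ρ.2.1 ρ.2.2 (wordC ρ.1 ρ.2.1 ρ.2.2 g) = wconj y g) → (ρ, y) ∈ exts := by
  decide +kernel

/-- Elements of the first normal elementary abelian subgroup of order sixteen. -/
def V1L : List (Fin 128) := [0, 2, 8, 10, 16, 18, 24, 26, 64, 66, 72, 74, 80, 82, 88, 90]

/-- Elements of the second normal elementary abelian subgroup of order sixteen. -/
def V2L : List (Fin 128) := [0, 6, 8, 14, 48, 54, 56, 62, 64, 70, 72, 78, 112, 118, 120, 126]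

theorem mem_union : ∀ a : Fin 128, wmul a a = 0 →
    (∀ h : Fin 128, wmul a (wconj h a) = wmul (wconj h a) a) → a ∈ V1L ∨ a ∈ V2L := by
  decide +kernel

theorem union_split : ∀ a ∈ V1L, a ∉ V2L → ∀ b ∈ V2L, b ∉ V1L → wmul a b ∉ V1L ∧ wmul a b ∉ V2L := by
  decide +kernel

theorem V1L_group : (0 : Fin 128) ∈ V1L ∧
    (∀ a ∈ V1L, ∀ b ∈ V1L, wmul a b ∈ V1L ∧ wmul a b = wmul b a ∧ wmul a a = 0) ∧
    (∀ a ∈ V1L, ∀ h : Fin 128, wconj h a ∈ V1L) ∧ V1L.Nodup ∧ V2L.Nodup := by
  decide +kernel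

theorem centre_list : ∀ a : Fin 128, (∀ g ∈ ([32, 16, 1] : List (Fin 128)), wmul a g = wmul g a) → a = 0 ∨ a = zc := by
  decide +kernel

theorem zc_central : ∀ a : Fin 128, wmul zc a = wmul a zc := by
  decide +kernel

theorem swap_moves : ∀ ε ∈ swapExts, wordC ε.1.1 ε.1.2.1 ε.1.2.2 16 ∈ V2L ∧
    wordC ε.1.1 ε.1.2.1 ε.1.2.2 16 ∉ V1L ∧ wordC ε.1.1 ε.1.2.1 ε.1.2.2 48 ∈ V1L ∧
    wordC ε.1.1 ε.1.2.1 ε.1.2.2 48 ∉ V2L := by
  refine of_all ?_
  decide +kernel

/-- Elements of an extension. -/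
abbrev QC : Type := Fin 128 × Bool

/-- Multiplication in the extension. -/
def qmul (ε : (Fin 128 × Fin 128 × Fin 128) × Fin 128) (u v : QC) : QC :=
  let b := cond u.2 (wordC ε.1.1 ε.1.2.1 ε.1.2.2 v.1) v.1
  (cond (u.2 && v.2) (wmul (wmul u.1 b) ε.2) (wmul u.1 b), xor u.2 v.2)

/-- Two elements agree modulo the central involution. -/
def QEq (ε : (Fin 128 × Fin 128 × Fin 128) × Fin 128) (u v : QC) : Prop :=
  u = v ∨ u = qmul ε (zc, false) v

instance (ε : (Fin 128 × Fin 128 × Fin 128) × Fin 128) (u v : QC) : Decidable (QEq ε u v) :=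
  inferInstanceAs (Decidable (_ ∨ _))

/-- Generators of a section of rank five. -/
def wit : List QC := [(0, true), (1, false), (8, false), (18, false), (36, false)]

/-- The product attached to a subset. -/
def witProd (ε : (Fin 128 × Fin 128 × Fin 128) × Fin 128) (c : Fin 5 → Bool) : QC :=
  ((List.finRange 5).map fun i => cond (c i) (wit[i.1]!) ((0 : Fin 128), false)).foldl (qmul ε) ((0 : Fin 128), false)

theorem rank_five : ∀ ε ∈ exts, ε ∉ swapExts →
    (∀ u ∈ wit, QEq ε (qmul ε u u) (0, false) ∧ ∀ v ∈ wit, QEq ε (qmul ε u v) (qmul ε v u)) ∧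
    ∀ c d : Fin 5 → Bool, QEq ε (witProd ε c) (witProd ε d) → c = d := by
  decide +kernel

/-- Generators of the central quotient of a rank four extension. -/
def qGens (ε : (Fin 128 × Fin 128 × Fin 128) × Fin 128) : QC × QC × QC :=
  if ε.1 = (32, 48, 1) then ((0, true), (19, false), (2, false)) else ((1, true), (18, true), (2, false))

/-- Powers in the extension. -/
def qpow (ε : (Fin 128 × Fin 128 × Fin 128) × Fin 128) (u : QC) : ℕ → QC
  | 0 => ((0 : Fin 128), false)
  | n + 1 => qmul ε (qpow ε u n) u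

/-- The word in the extension. -/
def qword (ε : (Fin 128 × Fin 128 × Fin 128) × Fin 128) (g : QC × QC × QC) (u : Fin 128) : QC :=
  qmul ε (qmul ε (qmul ε (qpow ε g.1 (u.1 / 32)) (qpow ε g.2.1 (u.1 / 16 % 2)))
    (qmul ε (qmul ε g.2.2 (qmul ε (qpow ε g.1 (u.1 / 4 % 4)) (qpow ε g.2.1 (u.1 / 2 % 2)))) g.2.2))
    (qpow ε g.2.2 (u.1 % 2))

theorem qword_hom : ∀ ε ∈ swapExts, ∀ u : Fin 128, ∀ v ∈ ([32, 16, 1] : List (Fin 128)),
    QEq ε (qword ε (qGens ε) (wmul u v)) (qmul ε (qword ε (qGens ε) u) (qword ε (qGens ε) v)) := by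
  refine of_all ?_
  decide +kernel

theorem qword_inj : ∀ ε ∈ swapExts, ∀ u : Fin 128, QEq ε (qword ε (qGens ε) u) (0, false) → u = 0 := by
  refine of_all ?_
  decide +kernel

end Cfsg.Agent.Lib.D8Wreath
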