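import Mathlib
import Cfsg.Prelude.Def_CaseTheorems
import Cfsg.Prelude.Def_Transfer
import Cfsg.Agent.Lib.D8Wreath.Checks

/-!
A 2-group of sectional rank at most four containing the wreath product of a dihedral group of order
eight by a group of order two.
-/

set_option autoImplicit false

namespace Cfsg.Agent.Lib.D8Wreath

open Subgroup

/-- The word `R ^ i F ^ j (T R ^ k F ^ l T) T ^ e` in a monoid. -/
def word {X : Type*} [Monoid X] (R F T : X) (u : Fin 128) : X :=
  R ^ (u.1 / 32) * F ^ (u.1 / 16 % 2) * (T * (R ^ (u.1 / 4 % 4) * F ^ (u.1 / 2 % 2)) * T) *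
    T ^ (u.1 % 2)

theorem el_wpow (u : Fin 128) (n : ℕ) : el (wpow u n) = el u ^ n := by
  induction n with
  | zero => rfl
  | succ n ih => rw [pow_succ, ← ih, ← el_mul]; rfl

theorem el_wordC (R F T u : Fin 128) : el (wordC R F T u) = word (el R) (el F) (el T) u := by
  simp only [wordC, el_mul, el_wpow, word]

theorem hom_word {X : Type*} [Monoid X] (f : W →* X) (u : Fin 128) :
    f (el u) = word (f (el 32)) (f (el 16)) (f (el 1)) u := by
  conv_lhs => rw [← word_gens u, el_wordC]
  simp only [word, map_mul, map_pow]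

theorem co_injective : Function.Injective co := fun _ _ h => h

theorem el_injective : Function.Injective el := fun _ _ h => h

/-- The relations of the three generators. -/
theorem gen_rels : wmul (32 : Fin 128) 32 ≠ 0 ∧ wmul (wmul 32 32) (wmul (32 : Fin 128) 32) = 0 ∧
    wmul (16 : Fin 128) 16 = 0 ∧ wmul (wmul 16 32) (wmul (16 : Fin 128) 32) = 0 ∧
    wmul (1 : Fin 128) 1 = 0 ∧
    wmul 32 (wmul (wmul 1 32) (1 : Fin 128)) = wmul (wmul (wmul 1 32) 1) 32 ∧
    wmul 16 (wmul (wmul 1 16) (1 : Fin 128)) = wmul (wmul (wmul 1 16) 1) 16 ∧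
    wmul 32 (wmul (wmul 1 16) (1 : Fin 128)) = wmul (wmul (wmul 1 16) 1) 32 ∧
    wmul (wmul 32 32) (wmul (wmul 1 (wmul 32 32)) (1 : Fin 128)) = zc ∧ zc ≠ 0 := by
  decide +kernel

section

variable {S : Type*} [Group S] (ι : W →* S)

/-- The map of an extension into the group. -/
def theta (g : S) (u : QC) : S := ι (el u.1) * cond u.2 g 1

/-- The new element realises an extension. -/
structure Realises (ε : (Fin 128 × Fin 128 × Fin 128) × Fin 128) (g : S) : Prop where
  mem : ε ∈ exts
  conj : ∀ b, g * ι (el b) * g⁻¹ = ι (el (wordC ε.1.1 ε.1.2.1 ε.1.2.2 b))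
  sq : g * g = ι (el ε.2)
  notMem : g ∉ ι.range

variable {ι} {ε : (Fin 128 × Fin 128 × Fin 128) × Fin 128} {g : S}

theorem Realises.theta_mul (h : Realises ι ε g) (u v : QC) :
    theta ι g (qmul ε u v) = theta ι g u * theta ι g v := by
  obtain ⟨a, e⟩ := u
  obtain ⟨b, f⟩ := v
  cases e
  · cases f <;> simp [theta, qmul, el_mul, map_mul, mul_assoc]
  · cases f
    · simp only [theta, qmul, Bool.and_false, cond_false, cond_true, Bool.xor_false, el_mul,
        map_mul, ← h.conj b]
      group
    · simp only [theta, qmul, Bool.and_true, cond_false, cond_true, Bool.xor_self, el_mul,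
        map_mul, ← h.conj b, ← h.sq]
      group

theorem theta_one (g : S) : theta ι g (0, false) = 1 := by
  simp [theta, el_zero]

theorem Realises.theta_eq_of_qeq (h : Realises ι ε g) {u v : QC} (huv : QEq ε u v) :
    theta ι g u = theta ι g v ∨ theta ι g u = ι (el zc) * theta ι g v := by
  rcases huv with rfl | rfl
  · exact Or.inl rfl
  · exact Or.inr (by rw [h.theta_mul]; simp [theta])

theorem Realises.theta_injective (h : Realises ι ε g) (hι : Function.Injective ι) :
    Function.Injective (theta ι g) := by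
  rintro ⟨a, e⟩ ⟨b, f⟩ heq
  cases e <;> cases f <;> simp only [theta, cond_false, cond_true, mul_one] at heq
  · rw [el_injective (hι heq)]
  · exact absurd ⟨(el b)⁻¹ * el a, by rw [map_mul, map_inv, heq, inv_mul_cancel_left]⟩ h.notMem
  · exact absurd ⟨(el a)⁻¹ * el b, by rw [map_mul, map_inv, ← heq, inv_mul_cancel_left]⟩ h.notMem
  · rw [el_injective (hι (mul_right_cancel heq))]

theorem Realises.qeq_of_theta (h : Realises ι ε g) (hι : Function.Injective ι) {u v : QC}
    (huv : theta ι g u = theta ι g v ∨ theta ι g u = ι (el zc) * theta ι g v) : QEq ε u v := by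
  rcases huv with e | e
  · exact Or.inl (h.theta_injective hι e)
  · refine Or.inr (h.theta_injective hι ?_)
    rw [h.theta_mul, e]
    simp [theta]

theorem el_zc_commute (w : W) : Commute (el zc) w := zc_central (co w)

theorem eq_el_zc_of_central {w : W} (hne : w ≠ 1) (hc : ∀ v, Commute w v) : w = el zc := by
  rcases centre_list (co w) (fun a _ => hc (el a)) with h | h
  · exact absurd h hne
  · exact h

theorem el_zc_ne_one : el zc ≠ 1 := gen_rels.2.2.2.2.2.2.2.2.2

theorem el_zc_sq : el zc * el zc = 1 := by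
  decide +kernel

/-- Conjugation by a normalising element fixes the central involution. -/
theorem conj_zeta [Finite S] (hι : Function.Injective ι) {g : S} (hg : g ∈ normalizer (ι.range : Set S)) :
    g * ι (el zc) * g⁻¹ = ι (el zc) := by
  obtain ⟨w, hw⟩ := (mem_normalizer_iff.1 hg _).1 ⟨el zc, rfl⟩
  rw [← hw]
  refine congrArg ι (eq_el_zc_of_central (fun h1 => ?_) fun v => ?_)
  · rw [h1, map_one] at hw
    have h2 : ι (el zc) = 1 := by
      have := congrArg (fun s => g⁻¹ * s * g) hw
      simpa [mul_assoc] using this.symm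
    exact el_zc_ne_one (hι (h2.trans (map_one ι).symm))
  · have hb : g⁻¹ * ι v * g ∈ ι.range := by
      have := (mem_normalizer_iff.1 (inv_mem hg) (ι v)).1 ⟨v, rfl⟩
      rwa [inv_inv] at this
    obtain ⟨b, hb⟩ := hb
    have hv : ι v = g * ι b * g⁻¹ := by rw [hb]; group
    refine hι ?_
    rw [map_mul, map_mul, hw, hv]
    calc g * ι (el zc) * g⁻¹ * (g * ι b * g⁻¹) = g * ι (el zc * b) * g⁻¹ := by rw [map_mul]; group
      _ = g * ι (b * el zc) * g⁻¹ := by rw [(el_zc_commute b).eq]
      _ = g * ι b * g⁻¹ * (g * ι (el zc) * g⁻¹) := by rw [map_mul]; group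

/-- An extension outside the four swapping ones has a section of rank five. -/
theorem Realises.mem_swap [Finite S] (h : Realises ι ε g) (hι : Function.Injective ι)
    (hr : Cfsg.SectionalPRankLE 2 4 S) (hg : g ∈ normalizer (ι.range : Set S)) : ε ∈ swapExts := by
  by_contra hns
  obtain ⟨hw, hinj⟩ := rank_five ε h.mem hns
  set ζ := ι (el zc) with hζ
  have hζu : ∀ u : QC, theta ι g u ∈ centralizer ({ζ} : Set S) := by
    intro u
    refine mem_centralizer_singleton_iff.2 ?_
    have h1 : Commute (ι (el u.1)) ζ := ((el_zc_commute (el u.1)).symm).map ι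
    have h2 : Commute (cond u.2 g 1) ζ := by
      cases u.2
      · exact Commute.one_left _
      · exact mul_inv_eq_iff_eq_mul.1 (conj_zeta hι hg)
    exact h1.mul_left h2
  let C : Subgroup S := centralizer ({ζ} : Set S)
  let K : Subgroup C := (zpowers ζ).subgroupOf C
  have hKn : K.Normal := ⟨fun n hn c => by
    have hc : Commute (n : S) (c : S) := by
      obtain ⟨k, hk⟩ := mem_zpowers_iff.1 (mem_subgroupOf.1 hn)
      rw [← hk]
      exact (Commute.zpow_right (mem_centralizer_singleton_iff.1 c.2) k).symm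
    have : c * n * c⁻¹ = n := Subtype.ext (by
      simp only [Subgroup.coe_mul, InvMemClass.coe_inv]
      rw [← hc.eq, mul_inv_cancel_right])
    rwa [this]⟩
  let x : QC → C ⧸ K := fun u => QuotientGroup.mk ⟨theta ι g u, hζu u⟩
  have hxm : ∀ u v, x (qmul ε u v) = x u * x v := fun u v =>
    (congrArg QuotientGroup.mk (Subtype.ext (h.theta_mul u v))).trans (QuotientGroup.mk_mul _ _ _)
  have hx1 : x (0, false) = 1 := by
    show QuotientGroup.mk _ = _
    rw [← QuotientGroup.mk_one K]
    exact congrArg _ (Subtype.ext (theta_one g))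
  have hx_eq : ∀ u v, x u = x v ↔ QEq ε u v := by
    intro u v
    have key : x u = x v ↔ (theta ι g u)⁻¹ * theta ι g v ∈ zpowers ζ := by
      rw [QuotientGroup.eq, mem_subgroupOf]; rfl
    have hzc : Commute ζ (theta ι g v) := (mem_centralizer_singleton_iff.1 (hζu v)).symm
    have hz2 : ζ⁻¹ = ζ := inv_eq_of_mul_eq_one_left (by rw [hζ, ← map_mul, el_zc_sq, map_one])
    rw [key]
    constructor
    · intro hm
      obtain ⟨k, hk⟩ := mem_zpowers_iff.1 hm
      refine h.qeq_of_theta hι ?_
      have h2k : ∀ j : ℤ, ζ ^ (2 * j) = 1 := fun j => by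
        rw [zpow_mul, zpow_two, hζ, ← map_mul, el_zc_sq, map_one, one_zpow]
      rcases Int.even_or_odd' k with ⟨j, rfl | rfl⟩
      · left
        rw [h2k] at hk
        exact inv_mul_eq_one.1 hk.symm
      · right
        rw [zpow_add, h2k, one_mul, zpow_one] at hk
        show theta ι g u = ζ * theta ι g v
        rw [hzc.eq, eq_mul_of_inv_mul_eq hk.symm, mul_assoc, hζ, ← map_mul, el_zc_sq, map_one, mul_one]
    · intro hq
      rcases h.theta_eq_of_qeq hq with e | e
      · rw [e, inv_mul_cancel]; exact one_mem _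
      · rw [e, mul_inv_rev, mul_assoc, hz2, hzc.eq, inv_mul_cancel_left]
        exact mem_zpowers ζ
  let G5 : Set (C ⧸ K) := x '' {u | u ∈ wit}
  let E : Subgroup (C ⧸ K) := closure G5
  have hcomm : ∀ a ∈ G5, ∀ b ∈ G5, a * b = b * a := by
    rintro _ ⟨u, hu, rfl⟩ _ ⟨v, hv, rfl⟩
    rw [← hxm, ← hxm]
    exact (hx_eq _ _).2 ((hw u hu).2 v hv)
  have hE : IsMulCommutative E := Subgroup.isMulCommutative_closure (fun a ha b hb => hcomm a ha b hb)
  have hsq : ∀ a ∈ E, a ^ 2 = 1 := by
    intro a ha
    induction ha using Subgroup.closure_induction with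
    | mem a ha =>
      obtain ⟨u, hu, rfl⟩ := ha
      rw [pow_two, ← hxm, ← hx1]
      exact (hx_eq _ _).2 (hw u hu).1
    | one => exact one_pow 2
    | mul a b ha hb h1 h2 =>
      rw [(show Commute a b from congrArg Subtype.val (hE.is_comm.comm ⟨a, ha⟩ ⟨b, hb⟩)).mul_pow, h1, h2,
        one_mul]
    | inv a _ h1 => rw [inv_pow, h1, inv_one]
  have hfold : ∀ (l : List QC) (b : QC), (∀ u ∈ l, x u ∈ E) → x b ∈ E → x (l.foldl (qmul ε) b) ∈ E := by
    intro l
    induction l with
    | nil => exact fun b _ hb => hb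
    | cons u l ih =>
      intro b hl hb
      exact ih _ (fun v hv => hl v (List.mem_cons_of_mem _ hv))
        (by rw [hxm]; exact mul_mem hb (hl u List.mem_cons_self))
  have hmem : ∀ c : Fin 5 → Bool, x (witProd ε c) ∈ E := by
    intro c
    refine hfold _ _ (fun u hu => ?_) (hx1.symm ▸ one_mem E)
    obtain ⟨i, -, rfl⟩ := List.mem_map.1 hu
    cases c i
    · exact hx1.symm ▸ one_mem E
    · exact subset_closure ⟨_, by fin_cases i <;> decide, rfl⟩
  have h32 : 32 ≤ Nat.card E := by
    have : Function.Injective fun c : Fin 5 → Bool => (⟨x (witProd ε c), hmem c⟩ : E) := fun c d hcd =>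
      hinj c d ((hx_eq _ _).1 (congrArg Subtype.val hcd))
    have := Nat.card_le_card_of_injective _ this
    simpa using this
  have := hr C K E hE hsq
  omega

/-- Normalisation of an element normalising the wreath product and squaring into it. -/
theorem exists_realises_of_class [Finite S] (hι : Function.Injective ι) {g : S}
    (hg : g ∈ normalizer (ι.range : Set S)) (hgn : g ∉ ι.range) (hg2 : g * g ∈ ι.range)
    {R₀ : Fin 128} (hR₀ : R₀ ∈ classL) (hgR : g * ι (el 32) * g⁻¹ = ι (el R₀)) :
    ∃ h : W, ∃ ε, Realises ι ε (ι h * g) := by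
  have hex : ∀ w : W, ∃ v : W, ι v = g * ι w * g⁻¹ := fun w =>
    (mem_normalizer_iff.1 hg _).1 ⟨w, rfl⟩
  choose ψ hψ using hex
  let Ψ : W →* W := MonoidHom.mk' ψ fun a b => hι (by rw [map_mul, hψ, hψ, hψ, map_mul]; group)
  have hΨ : ∀ w, ι (Ψ w) = g * ι w * g⁻¹ := hψ
  have hΨi : Function.Injective Ψ := fun a b hab => hι (by
    have := congrArg ι hab
    rw [hΨ, hΨ] at this
    exact mul_left_cancel (mul_right_cancel this))
  have hz : Ψ (el zc) = el zc := hι (by rw [hΨ, conj_zeta hι hg])
  have key : ∀ a b : Fin 128, a = b → co (Ψ (el a)) = co (Ψ (el b)) := fun a b h => by rw [h]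
  obtain ⟨r1, r2, r3, r4, r5, r6, r7, r8, r9, -⟩ := gen_rels
  have hP : ∀ a b : Fin 128, co (Ψ (el (wmul a b))) = wmul (co (Ψ (el a))) (co (Ψ (el b))) := fun a b => by
    rw [el_mul, map_mul, co_mul]
  have h0 : co (Ψ (el (0 : Fin 128))) = 0 := by rw [el_zero, map_one]; rfl
  set R := co (Ψ (el 32)) with hR
  set F := co (Ψ (el 16)) with hF
  set T := co (Ψ (el 1)) with hT
  obtain ⟨h, hh⟩ := rel_reps R
    (by rwa [hR, show Ψ (el 32) = el R₀ from hι ((hΨ _).trans hgR), co_el]) F
    (mem_invL (by have := key _ _ r3; simpa only [hP, h0] using this))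
    (by have := key _ _ r4; simpa only [hP, h0] using this) T
    (mem_invL (by have := key _ _ r5; simpa only [hP, h0] using this))
    (by have := key _ _ r6; simpa only [hP] using this)
    (by have := key _ _ r7; simpa only [hP] using this)
    (by have := key _ _ r8; simpa only [hP] using this)
    (by have := key _ _ r9; rw [hz, co_el] at this; simpa only [hP] using this)
  set ρ := (wconj h R, wconj h F, wconj h T) with hρ
  set g' := ι (el h) * g with hg'
  let c' : W →* S := (MulAut.conj g').toMonoidHom.comp ι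
  have hgen : ∀ a : Fin 128, c' (el a) = ι (el (wconj h (co (Ψ (el a))))) := by
    intro a
    show g' * ι (el a) * g'⁻¹ = _
    rw [wconj, el_mul, el_mul, el_inv, el_co, map_mul, map_mul, map_inv, hΨ, hg']
    group
  have hconj : ∀ b, g' * ι (el b) * g'⁻¹ = ι (el (wordC ρ.1 ρ.2.1 ρ.2.2 b)) := by
    intro b
    show c' (el b) = _
    rw [hom_word c', hgen, hgen, hgen, el_wordC]
    simp only [hρ, word, map_mul, map_pow]
    rfl
  have hgP : ι.range ≤ normalizer (ι.range : Set S) := le_normalizer
  obtain ⟨y, hy⟩ : g' * g' ∈ ι.range := by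
    have : g' * g' = ι (el h) * (g * ι (el h) * g⁻¹) * (g * g) := by rw [hg']; group
    rw [this, ← hΨ]
    exact mul_mem (mul_mem ⟨_, rfl⟩ ⟨_, rfl⟩) hg2
  refine ⟨el h, (ρ, co y), reps_exts ρ hh (co y) ?_ (fun a _ => ?_), hconj, hy.symm, fun hm => hgn ?_⟩
  · refine el_injective (hι ?_)
    rw [← hconj, el_co, hy]
    group
  · refine el_injective (hι ?_)
    rw [← hconj, ← hconj, wconj, el_mul, el_mul, el_inv, el_co, map_mul, map_mul, map_inv, hy]
    group
  · have := mul_mem (inv_mem (⟨el h, rfl⟩ : ι (el h) ∈ ι.range)) hm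
    rwa [inv_mul_cancel_left] at this

/-- Normalisation of an element normalising the wreath product and squaring into it. -/
theorem exists_realises [Finite S] (hι : Function.Injective ι) {g : S}
    (hg : g ∈ normalizer (ι.range : Set S)) (hgn : g ∉ ι.range) (hg2 : g * g ∈ ι.range) :
    ∃ h : W, ∃ ε, Realises ι ε (ι h * g) := by
  obtain ⟨w, hw⟩ := (mem_normalizer_iff.1 hg (ι (el 32))).1 ⟨_, rfl⟩
  obtain ⟨r1, r2, -⟩ := gen_rels
  have hw2 : ι (w * w) = g * ι (el (wmul 32 32)) * g⁻¹ := by
    rw [map_mul, hw, el_mul, map_mul]; group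
  obtain ⟨h₁, hh₁⟩ := exists_class (co w)
    (fun e => r1 (el_injective (hι (mul_left_cancel (a := g) (mul_right_cancel (b := g⁻¹) (by
      rw [← hw2, el_zero, map_one, mul_one, mul_inv_cancel, co_injective (a₁ := w * w) (a₂ := 1) e,
        map_one]))))))
    (co_injective (hι (by
      show ι (w * w * (w * w)) = ι 1
      rw [map_mul, hw2, conj_mul, ← map_mul, ← el_mul, r2, el_zero, map_one, mul_one, mul_inv_cancel])))
  have hg1 : ι (el h₁) * g ∈ normalizer (ι.range : Set S) := mul_mem (le_normalizer ⟨_, rfl⟩) hg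
  obtain ⟨h, ε, hR⟩ := exists_realises_of_class hι hg1
    (fun hm => hgn (by
      have := mul_mem (inv_mem (⟨el h₁, rfl⟩ : ι (el h₁) ∈ ι.range)) hm
      rwa [inv_mul_cancel_left] at this))
    (by
      obtain ⟨b, hb⟩ := (mem_normalizer_iff.1 hg (ι (el h₁))).1 ⟨_, rfl⟩
      have : ι (el h₁) * g * (ι (el h₁) * g) = ι (el h₁) * ι b * (g * g) := by rw [hb]; group
      rw [this]
      exact mul_mem (mul_mem ⟨_, rfl⟩ ⟨_, rfl⟩) hg2)
    hh₁ (by rw [wconj, el_mul, el_mul, el_inv, el_co, map_mul, map_mul, map_inv, hw]; group)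
  exact ⟨h * el h₁, ε, by rw [map_mul, mul_assoc]; exact hR⟩

end

end Cfsg.Agent.Lib.D8Wreath
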