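import Mathlib
import Cfsg.Agent.Lib.D8Wreath.Main

/-!
Centre, normaliser and normal elementary abelian subgroups of order sixteen of the wreath product
inside a 2-group of sectional rank at most four.
-/

set_option autoImplicit false

namespace Cfsg.Agent.Lib.D8Wreath

open Subgroup

variable {S : Type*} [Group S] (ι : W →* S)

/-- The first normal elementary abelian subgroup of order sixteen, as a subgroup of the model. -/
def V1 : Subgroup W where
  carrier := {a | co a ∈ V1L}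
  one_mem' := V1L_group.1
  mul_mem' {a b} ha hb := (V1L_group.2.1 _ ha _ hb).1
  inv_mem' {a} ha := by
    have h : a * a = 1 := (V1L_group.2.1 _ ha _ ha).2.2
    rw [inv_eq_of_mul_eq_one_left h]; exact ha

theorem mem_V1 {a : W} : a ∈ V1 ↔ co a ∈ V1L := Iff.rfl

/-- The image of a list of codes. -/
def img (l : List (Fin 128)) : Set S := (fun a => ι (el a)) '' {a | a ∈ l}

theorem map_V1 : ((V1.map ι : Subgroup S) : Set S) = img ι V1L := by
  ext s
  constructor
  · rintro ⟨w, hw, rfl⟩; exact ⟨co w, hw, rfl⟩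
  · rintro ⟨a, ha, rfl⟩; exact ⟨el a, ha, rfl⟩

theorem ncard_img (hι : Function.Injective ι) {l : List (Fin 128)} (hl : l.Nodup) :
    (img ι l).ncard = l.length := by
  rw [img, Set.ncard_image_of_injective (f := fun a : Fin 128 => ι (el a)) _ (fun _ _ h => el_injective (hι h)), ← List.coe_toFinset,
    Set.ncard_coe_finset, List.toFinset_card_of_nodup hl]

theorem V1_spec (hι : Function.Injective ι) :
    V1.map ι ≤ ι.range ∧ (∀ p ∈ ι.range, ∀ v ∈ V1.map ι, p * v * p⁻¹ ∈ V1.map ι) ∧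
      Cfsg.IsElementaryAbelian 2 (V1.map ι) ∧ Nat.card ↥(V1.map ι) = 16 := by
  refine ⟨fun s ⟨w, _, hw⟩ => ⟨w, hw⟩, ?_, ⟨⟨⟨?_⟩⟩, ?_⟩, ?_⟩
  · rintro _ ⟨w, rfl⟩ _ ⟨v, hv, rfl⟩
    exact ⟨w * v * w⁻¹, V1L_group.2.2.1 _ hv (co w), by simp⟩
  · rintro ⟨_, a, ha, rfl⟩ ⟨_, b, hb, rfl⟩
    refine Subtype.ext ?_
    show ι a * ι b = ι b * ι a
    rw [← map_mul, ← map_mul]
    exact congrArg ι (co_injective (V1L_group.2.1 _ ha _ hb).2.1)
  · rintro _ ⟨a, ha, rfl⟩
    rw [pow_two, ← map_mul]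
    exact (congrArg ι (co_injective (a₂ := 1) (V1L_group.2.1 _ ha _ ha).2.2)).trans (map_one ι)
  · rw [← SetLike.coe_sort_coe, Nat.card_coe_set_eq, map_V1, ncard_img ι hι V1L_group.2.2.2.1]
    rfl

theorem eq_V (hι : Function.Injective ι) {V : Subgroup S} (hVP : V ≤ ι.range)
    (hn : ∀ p ∈ ι.range, ∀ v ∈ V, p * v * p⁻¹ ∈ V) (hV : Cfsg.IsElementaryAbelian 2 V)
    (h16 : Nat.card ↥V = 16) : (V : Set S) = img ι V1L ∨ (V : Set S) = img ι V2L := by
  have hU : ∀ a : Fin 128, ι (el a) ∈ V → a ∈ V1L ∨ a ∈ V2L := by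
    intro a ha
    refine mem_union a ?_ fun h => ?_
    · refine el_injective (hι ?_)
      rw [el_mul, map_mul, ← pow_two, hV.2 _ ha, el_zero, map_one]
    · refine el_injective (hι ?_)
      have hb : ι (el (wconj h a)) ∈ V := by
        rw [wconj, el_mul, el_mul, el_inv, map_mul, map_mul, map_inv]
        exact hn _ ⟨_, rfl⟩ _ ha
      rw [el_mul, el_mul, map_mul, map_mul]
      exact congrArg Subtype.val (hV.1.is_comm.comm ⟨_, ha⟩ ⟨_, hb⟩)
  have hsub : (V : Set S) ⊆ img ι V1L ∨ (V : Set S) ⊆ img ι V2L := by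
    by_contra hc
    rw [not_or, Set.not_subset, Set.not_subset] at hc
    obtain ⟨⟨s, hs, hs1⟩, t, ht, ht2⟩ := hc
    obtain ⟨ws, rfl⟩ := hVP hs
    obtain ⟨wt, rfl⟩ := hVP ht
    have hs' : co ws ∉ V1L := fun h => hs1 ⟨co ws, h, rfl⟩
    have ht' : co wt ∉ V2L := fun h => ht2 ⟨co wt, h, rfl⟩
    have hs2 : co ws ∈ V2L := (hU _ hs).resolve_left hs'
    have ht1 : co wt ∈ V1L := (hU _ ht).resolve_right ht'
    have hst : ι (el (wmul (co wt) (co ws))) ∈ V := by
      rw [el_mul, map_mul]; exact mul_mem ht hs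
    obtain ⟨n1, n2⟩ := union_split _ ht1 ht' _ hs2 hs'
    rcases hU _ hst with h | h
    exacts [n1 h, n2 h]
  have hfin : ∀ l, (img ι l : Set S).Finite := fun l => l.finite_toSet.image _
  have hc : (V : Set S).ncard = 16 := by rw [← Nat.card_coe_set_eq]; exact h16
  rcases hsub with h | h
  · exact Or.inl (Set.eq_of_subset_of_ncard_le h
      (by rw [hc, ncard_img ι hι V1L_group.2.2.2.1]; rfl) (hfin _))
  · exact Or.inr (Set.eq_of_subset_of_ncard_le h
      (by rw [hc, ncard_img ι hι V1L_group.2.2.2.2]; rfl) (hfin _))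

variable {ι}

/-- A conjugate of `V1` under the normaliser is one of the two subgroups. -/
theorem conj_V1 (hι : Function.Injective ι) {g : S} (hg : g ∈ normalizer (ι.range : Set S)) :
    (fun v => g * v * g⁻¹) '' img ι V1L = img ι V1L ∨ (fun v => g * v * g⁻¹) '' img ι V1L = img ι V2L := by
  obtain ⟨h1, h2, h3, h4⟩ := V1_spec ι hι
  let V' := (V1.map ι).map (MulAut.conj g).toMonoidHom
  have hmem : ∀ s, s ∈ V' ↔ g⁻¹ * s * g ∈ V1.map ι := by
    intro s
    constructor
    · rintro ⟨v, hv, rfl⟩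
      show g⁻¹ * (g * v * g⁻¹) * g ∈ _
      rwa [show g⁻¹ * (g * v * g⁻¹) * g = v by group]
    · exact fun h => ⟨_, h, show g * (g⁻¹ * s * g) * g⁻¹ = s by group⟩
  have hcoe : (V' : Set S) = (fun v => g * v * g⁻¹) '' img ι V1L := by
    rw [← map_V1]; rfl
  rw [← hcoe]
  refine eq_V ι hι ?_ ?_ ⟨⟨⟨?_⟩⟩, ?_⟩ ?_
  · rintro _ ⟨v, hv, rfl⟩
    exact (mem_normalizer_iff.1 hg v).1 (h1 hv)
  · intro p hp v hv
    rw [hmem] at hv ⊢
    have hp' : g⁻¹ * p * g ∈ ι.range := by
      have := (mem_normalizer_iff.1 (inv_mem hg) p).1 hp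
      rwa [inv_inv] at this
    have := h2 _ hp' _ hv
    rwa [show g⁻¹ * p * g * (g⁻¹ * v * g) * (g⁻¹ * p * g)⁻¹ = g⁻¹ * (p * v * p⁻¹) * g by group] at this
  · rintro ⟨_, a, ha, rfl⟩ ⟨_, b, hb, rfl⟩
    refine Subtype.ext ?_
    show MulAut.conj g a * MulAut.conj g b = MulAut.conj g b * MulAut.conj g a
    rw [← map_mul, ← map_mul]
    exact congrArg _ (congrArg Subtype.val (h3.1.is_comm.comm ⟨a, ha⟩ ⟨b, hb⟩))
  · rintro _ ⟨a, ha, rfl⟩
    rw [← map_pow, h3.2 a ha, map_one]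
  · rw [card_map_of_injective (MulAut.conj g).injective]; exact h4

variable [Finite S]

omit [Finite S] in
/-- The swapping extensions move `V1`. -/
theorem Realises.moves {ε : (Fin 128 × Fin 128 × Fin 128) × Fin 128} {g : S} (h : Realises ι ε g)
    (hι : Function.Injective ι) (hε : ε ∈ swapExts) :
    (fun v => g * v * g⁻¹) '' img ι V1L ≠ img ι V1L := by
  intro heq
  have hm : g * ι (el 16) * g⁻¹ ∈ img ι V1L := heq ▸ Set.mem_image_of_mem _ ⟨16, by decide, rfl⟩
  rw [h.conj] at hm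
  obtain ⟨a, ha, he⟩ := hm
  have h2 := (swap_moves ε hε).2.1
  rw [← el_injective (hι he)] at h2
  exact h2 ha

theorem exists_swap (hι : Function.Injective ι) (hr : Cfsg.SectionalPRankLE 2 4 S) {g : S}
    (hg : g ∈ normalizer (ι.range : Set S)) (hgn : g ∉ ι.range) (hg2 : g * g ∈ ι.range) :
    ∃ g' ε, Realises ι ε g' ∧ ε ∈ swapExts ∧ g' ∈ normalizer (ι.range : Set S) ∧ g' * g⁻¹ ∈ ι.range := by
  obtain ⟨h, ε, hR⟩ := exists_realises hι hg hgn hg2
  have hN : ι h * g ∈ normalizer (ι.range : Set S) := mul_mem (le_normalizer ⟨h, rfl⟩) hg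
  exact ⟨_, ε, hR, hR.mem_swap hι hr hN, hN, ⟨h, (mul_inv_cancel_right _ _).symm⟩⟩

omit [Finite S] in
theorem conj_img_mul (a b : S) (A : Set S) :
    (fun v => a * b * v * (a * b)⁻¹) '' A = (fun v => a * v * a⁻¹) '' ((fun v => b * v * b⁻¹) '' A) := by
  rw [Set.image_image]
  refine Set.image_congr fun v _ => ?_
  group

omit [Finite S] in
theorem conj_range_V1 (hι : Function.Injective ι) {p : S} (hp : p ∈ ι.range) :
    (fun v => p * v * p⁻¹) '' img ι V1L = img ι V1L := by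
  obtain ⟨-, h2, -, -⟩ := V1_spec ι hι
  rw [← map_V1]
  refine Set.Subset.antisymm (Set.image_subset_iff.2 fun v hv => h2 p hp v hv) fun v hv => ?_
  exact ⟨_, h2 _ (inv_mem hp) v hv, by group⟩

/-- The stabiliser of `V1` in the normaliser of the wreath product is the wreath product. -/
theorem mem_range_of_fix (h2 : IsPGroup 2 S) (hι : Function.Injective ι)
    (hr : Cfsg.SectionalPRankLE 2 4 S) {g : S} (hg : g ∈ normalizer (ι.range : Set S))
    (hfix : (fun v => g * v * g⁻¹) '' img ι V1L = img ι V1L) : g ∈ ι.range := by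
  obtain ⟨n, hn⟩ := h2 g
  induction n generalizing g with
  | zero =>
    rw [pow_zero, pow_one] at hn
    exact hn ▸ one_mem _
  | succ n ih =>
    by_contra hgn
    have hsq : g * g ∈ ι.range := by
      refine ih (mul_mem hg hg) ?_ ?_
      · rw [conj_img_mul, hfix, hfix]
      · rw [← pow_two, ← pow_mul, ← pow_succ']; exact hn
    obtain ⟨g', ε, hR, hε, -, hgg⟩ := exists_swap hι hr hg hgn hsq
    refine hR.moves hι hε ?_
    rw [show g' = g' * g⁻¹ * g by group, conj_img_mul, hfix, conj_range_V1 hι hgg]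

theorem mem_range_of_fix_V2 (h2 : IsPGroup 2 S) (hι : Function.Injective ι)
    (hr : Cfsg.SectionalPRankLE 2 4 S) {g : S} (hg : g ∈ normalizer (ι.range : Set S))
    (hfix : (fun v => g * v * g⁻¹) '' img ι V2L = img ι V2L) : g ∈ ι.range := by
  rcases conj_V1 hι hg with h | h
  · exact mem_range_of_fix h2 hι hr hg h
  · exfalso
    have hinj : Function.Injective fun v : S => g * v * g⁻¹ := fun a b hab =>
      mul_left_cancel (mul_right_cancel hab)
    have he := hinj.image_injective (h.trans hfix.symm)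
    have h16 : ι (el 16) ∈ img ι V2L := he ▸ ⟨16, by decide, rfl⟩
    obtain ⟨a, ha, hae⟩ := h16
    rw [el_injective (hι hae)] at ha
    exact absurd ha (by decide)

end Cfsg.Agent.Lib.D8Wreath
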