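import Mathlib
import Cfsg.Agent.Lib.D8Wreath.Structure

/-!
The centre of the group, and the normaliser of the wreath product modulo it.
-/

set_option autoImplicit false

namespace Cfsg.Agent.Lib.D8Wreath

open Subgroup

variable {S : Type*} [Group S] [Finite S] {ι : W →* S}

theorem eq_of_normalizer_inf_le (h2 : IsPGroup 2 S) {H K : Subgroup S} (hHK : H ≤ K)
    (h : ∀ g ∈ K, g ∈ normalizer (H : Set S) → g ∈ H) : H = K := by
  have : Fact (Nat.Prime 2) := ⟨Nat.prime_two⟩
  have : Group.IsNilpotent K := (h2.to_subgroup K).isNilpotent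
  have htop : H.subgroupOf K = ⊤ := by
    by_contra hne
    have hlt := (Group.normalizerCondition_of_isNilpotent (G := K)) (H.subgroupOf K) (lt_top_iff_ne_top.2 hne)
    obtain ⟨g, hg, hgn⟩ := SetLike.exists_of_lt hlt
    refine hgn (mem_subgroupOf.2 (h g g.2 (mem_normalizer_iff.2 fun s => ?_)))
    constructor
    · intro hs
      exact mem_subgroupOf.1 ((mem_normalizer_iff.1 hg ⟨s, hHK hs⟩).1 (mem_subgroupOf.2 hs))
    · intro hs
      have hsK : s ∈ K := by
        have := mul_mem (mul_mem (inv_mem g.2) (hHK hs)) g.2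
        rwa [show (g : S)⁻¹ * ((g : S) * s * (g : S)⁻¹) * g = s by group] at this
      exact mem_subgroupOf.1 ((mem_normalizer_iff.1 hg ⟨s, hsK⟩).2 (mem_subgroupOf.2 hs))
  exact le_antisymm hHK (subgroupOf_eq_top.1 htop)

theorem center_model : Subgroup.center W = zpowers (el zc) := by
  refine le_antisymm (fun w hw => ?_) ((zpowers_le).2 (mem_center_iff.2 fun v => ((el_zc_commute v).eq).symm))
  by_cases h1 : w = 1
  · rw [h1]; exact one_mem _
  · rw [eq_el_zc_of_central h1 fun v => ((mem_center_iff.1 hw) v).symm]; exact mem_zpowers _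

theorem centralizer_range_le (h2 : IsPGroup 2 S) (hι : Function.Injective ι)
    (hr : Cfsg.SectionalPRankLE 2 4 S) : centralizer (ι.range : Set S) ≤ (Subgroup.center W).map ι := by
  intro c hc
  have hcv : ∀ v ∈ ι.range, c * v * c⁻¹ = v := fun v hv => by
    rw [← mem_centralizer_iff.1 hc v hv, mul_inv_cancel_right]
  have hcN : c ∈ normalizer (ι.range : Set S) := centralizer_le_normalizer _ hc
  obtain ⟨w, rfl⟩ := mem_range_of_fix h2 hι hr hcN (by
    conv_rhs => rw [← Set.image_id (img ι V1L)]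
    refine Set.image_congr ?_
    rintro _ ⟨a, -, rfl⟩
    exact hcv _ ⟨_, rfl⟩)
  refine mem_map_of_mem ι (mem_center_iff.2 fun v => hι ?_)
  rw [map_mul, map_mul]
  exact mem_centralizer_iff.1 hc _ ⟨v, rfl⟩

theorem center_eq (h2 : IsPGroup 2 S) (hι : Function.Injective ι) (hr : Cfsg.SectionalPRankLE 2 4 S) :
    Subgroup.center S = (Subgroup.center W).map ι ∧ Subgroup.center S = zpowers (ι (el zc)) ∧
      Nat.card ↥(Subgroup.center S) = 2 := by
  have : Fact (Nat.Prime 2) := ⟨Nat.prime_two⟩
  have hz : (Subgroup.center W).map ι = zpowers (ι (el zc)) := by rw [center_model, MonoidHom.map_zpowers]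
  have hord : orderOf (ι (el zc)) = 2 := by
    rw [orderOf_injective ι hι]
    exact orderOf_eq_prime (by rw [pow_two, el_zc_sq]) el_zc_ne_one
  have hle : Subgroup.center S ≤ (Subgroup.center W).map ι :=
    le_trans (center_le_centralizer _) (centralizer_range_le h2 hι hr)
  have : Nontrivial S := ⟨⟨ι (el zc), 1, fun h => el_zc_ne_one (hι (h.trans (map_one ι).symm))⟩⟩
  have hcz : Nat.card ↥(zpowers (ι (el zc))) = 2 := by rw [Nat.card_zpowers, hord]
  have heq : Subgroup.center S = zpowers (ι (el zc)) := by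
    refine Subgroup.eq_of_le_of_card_ge (hz ▸ hle) ?_
    rw [hcz]
    have := h2.center_nontrivial
    exact Finite.one_lt_card
  exact ⟨heq.trans hz.symm, heq, heq ▸ hcz⟩

theorem normalizer_V_eq (h2 : IsPGroup 2 S) (hι : Function.Injective ι)
    (hr : Cfsg.SectionalPRankLE 2 4 S) {V : Subgroup S} (hVP : V ≤ ι.range)
    (hn : ∀ p ∈ ι.range, ∀ v ∈ V, p * v * p⁻¹ ∈ V) (hV : Cfsg.IsElementaryAbelian 2 V)
    (h16 : Nat.card ↥V = 16) : normalizer (V : Set S) = ι.range := by
  refine (eq_of_normalizer_inf_le h2 ?_ fun g hg hgN => ?_).symm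
  · intro p hp
    refine mem_normalizer_iff.2 fun v => ⟨hn p hp v, fun hv => ?_⟩
    have := hn _ (inv_mem hp) _ hv
    rwa [show p⁻¹ * (p * v * p⁻¹) * p⁻¹⁻¹ = v by group] at this
  · have hgfix : (fun v => g * v * g⁻¹) '' (V : Set S) = V := by
      refine Set.Subset.antisymm (Set.image_subset_iff.2 fun v hv => (mem_normalizer_iff.1 hg v).1 hv)
        fun v hv => ⟨g⁻¹ * v * g, ?_, by group⟩
      have := (mem_normalizer_iff.1 (inv_mem hg) v).1 hv
      rwa [inv_inv] at this
    rcases eq_V ι hι hVP hn hV h16 with e | e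
    · exact mem_range_of_fix h2 hι hr hgN (by rw [← e]; exact hgfix)
    · exact mem_range_of_fix_V2 h2 hι hr hgN (by rw [← e]; exact hgfix)

theorem normalizer_range (h2 : IsPGroup 2 S) (hι : Function.Injective ι)
    (hr : Cfsg.SectionalPRankLE 2 4 S) (hne : ι.range ≠ ⊤) :
    ι.range.relIndex (normalizer (ι.range : Set S)) = 2 ∧
      ∃ g ε, Realises ι ε g ∧ ε ∈ swapExts ∧ g ∈ normalizer (ι.range : Set S) := by
  have hex : ∃ g ∈ normalizer (ι.range : Set S), g ∉ ι.range ∧ g * g ∈ ι.range := by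
    have h1 : ∃ g ∈ normalizer (ι.range : Set S), g ∉ ι.range := by
      by_contra hc
      push Not at hc
      exact hne (eq_of_normalizer_inf_le h2 le_top fun g _ hg => hc g hg)
    obtain ⟨g, hg, hgn⟩ := h1
    obtain ⟨n, hn⟩ := h2 g
    induction n generalizing g with
    | zero => exact absurd (by rw [pow_zero, pow_one] at hn; exact hn ▸ one_mem _) hgn
    | succ n ih =>
      by_cases hsq : g * g ∈ ι.range
      · exact ⟨g, hg, hgn, hsq⟩
      · exact ih (g * g) (mul_mem hg hg) hsq (by rw [← pow_two, ← pow_mul, ← pow_succ']; exact hn)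
  obtain ⟨g, hg, hgn, hg2⟩ := hex
  obtain ⟨g', ε, hR, hε, hg'N, -⟩ := exists_swap hι hr hg hgn hg2
  refine ⟨?_, g', ε, hR, hε, hg'N⟩
  have hto : (fun v => g' * v * g'⁻¹) '' img ι V1L = img ι V2L :=
    (conj_V1 hι hg'N).resolve_left (hR.moves hι hε)
  rw [relIndex, index_eq_two_iff]
  refine ⟨⟨g', hg'N⟩, fun b => ?_⟩
  simp only [mem_subgroupOf, Subgroup.coe_mul]
  by_cases hb : (b : S) ∈ ι.range
  · exact Or.inr ⟨hb, fun h => hR.notMem (by
      have := mul_mem (inv_mem hb) h
      rwa [inv_mul_cancel_left] at this)⟩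
  · refine Or.inl ⟨mem_range_of_fix h2 hι hr (mul_mem b.2 hg'N) ?_, hb⟩
    rcases conj_V1 hι b.2 with hbv | hbv
    · exact absurd (mem_range_of_fix h2 hι hr b.2 hbv) hb
    · have hinj : ∀ c : S, Function.Injective fun v : S => c * v * c⁻¹ := fun c a b hab =>
        mul_left_cancel (mul_right_cancel hab)
      have hg'2 : (fun v => g' * v * g'⁻¹) '' img ι V2L = img ι V1L := by
        have hp : g' * g' ∈ ι.range := ⟨_, hR.sq.symm⟩
        have := conj_range_V1 hι hp
        rwa [conj_img_mul, hto] at this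
      have : (fun v => (b : S) * v * (b : S)⁻¹) '' img ι V2L = img ι V1L := by
        have hbb : (b : S) * b ∈ normalizer (ι.range : Set S) := mul_mem b.2 b.2
        rcases conj_V1 hι hbb with h | h
        · rwa [conj_img_mul, hbv] at h
        · rw [conj_img_mul, hbv] at h
          exact absurd (mem_range_of_fix_V2 h2 hι hr b.2 h) hb
      rw [conj_img_mul, hto, this]

theorem quotient_equiv (h2 : IsPGroup 2 S) (hι : Function.Injective ι)
    (hr : Cfsg.SectionalPRankLE 2 4 S) (hne : ι.range ≠ ⊤)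
    [hn : ((Subgroup.center S).subgroupOf (normalizer (ι.range : Set S))).Normal] :
    Nonempty (W ≃* ↥(normalizer (ι.range : Set S)) ⧸
      (Subgroup.center S).subgroupOf (normalizer (ι.range : Set S))) := by
  obtain ⟨hidx, g, ε, hR, hε, hgN⟩ := normalizer_range h2 hι hr hne
  obtain ⟨-, hZ, hZ2⟩ := center_eq h2 hι hr
  set Q := normalizer (ι.range : Set S) with hQ
  set Z := (Subgroup.center S).subgroupOf Q with hZdef
  have hθQ : ∀ u : QC, theta ι g u ∈ Q := by
    intro u
    refine mul_mem (le_normalizer ⟨_, rfl⟩) ?_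
    cases u.2
    exacts [one_mem _, hgN]
  let x : QC → Q ⧸ Z := fun u => QuotientGroup.mk ⟨theta ι g u, hθQ u⟩
  have hxm : ∀ u v, x (qmul ε u v) = x u * x v := fun u v =>
    (congrArg QuotientGroup.mk (Subtype.ext (hR.theta_mul u v))).trans (QuotientGroup.mk_mul _ _ _)
  have hzinv : (ι (el zc))⁻¹ = ι (el zc) := inv_eq_of_mul_eq_one_left (by rw [← map_mul, el_zc_sq, map_one])
  have hzmem : ι (el zc) ∈ Subgroup.center S := hZ ▸ mem_zpowers _
  have hxq : ∀ u v, x u = x v ↔ QEq ε u v := by
    intro u v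
    have key : x u = x v ↔ (theta ι g u)⁻¹ * theta ι g v ∈ Subgroup.center S := by
      rw [QuotientGroup.eq, hZdef, mem_subgroupOf]; rfl
    rw [key]
    constructor
    · intro hm
      refine hR.qeq_of_theta hι ?_
      rw [hZ] at hm
      obtain ⟨k, hk⟩ := mem_zpowers_iff.1 hm
      have h2k : ∀ j : ℤ, ι (el zc) ^ (2 * j) = 1 := fun j => by
        rw [zpow_mul, zpow_two, ← map_mul, el_zc_sq, map_one, one_zpow]
      rcases Int.even_or_odd' k with ⟨j, rfl | rfl⟩
      · left
        rw [h2k] at hk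
        exact inv_mul_eq_one.1 hk.symm
      · right
        rw [zpow_add, h2k, one_mul, zpow_one] at hk
        rw [eq_mul_of_inv_mul_eq hk.symm, (mem_center_iff.1 hzmem _).symm, mul_assoc,
          ← map_mul, el_zc_sq, map_one, mul_one]
    · intro hq
      rcases hR.theta_eq_of_qeq hq with e | e
      · rw [e, inv_mul_cancel]; exact one_mem _
      · rw [e, mul_inv_rev, mul_assoc, hzinv, ← (mem_center_iff.1 hzmem _), inv_mul_cancel_left]
        exact hzmem
  have hx1 : x (0, false) = 1 := by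
    show QuotientGroup.mk _ = _
    rw [← QuotientGroup.mk_one Z]
    exact congrArg _ (Subtype.ext (theta_one g))
  let y : W → Q ⧸ Z := fun w => x (qword ε (qGens ε) (co w))
  have hgen : ∀ v : Fin 128, v ∈ ([32, 16, 1] : List (Fin 128)) → ∀ a : W, y (a * el v) = y a * y (el v) :=
    fun v hv a => ((hxq _ _).2 (qword_hom ε hε (co a) v hv)).trans (hxm _ _)
  let M : Submonoid W :=
    { carrier := {b | ∀ a : W, y (a * b) = y a * y b}
      one_mem' := fun a => by
        have h1 : y 1 = 1 := by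
          have h := hgen 32 (by simp) 1
          rw [one_mul] at h
          exact right_eq_mul.1 h
        rw [mul_one, h1, mul_one]
      mul_mem' := fun {b c} hb hc a => by
        rw [← mul_assoc, hc, hb, mul_assoc, ← hc] }
  have hall : ∀ b : W, b ∈ M := fun b => by
    have hg3 : ∀ v ∈ ([32, 16, 1] : List (Fin 128)), el v ∈ M := fun v hv a => hgen v hv a
    have hw := hom_word (MonoidHom.id W) (co b)
    rw [MonoidHom.id_apply, el_co] at hw
    rw [hw]
    simp only [word, MonoidHom.id_apply]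
    refine mul_mem (mul_mem (mul_mem (pow_mem (hg3 _ ?_) _) (pow_mem (hg3 _ ?_) _))
      (mul_mem (mul_mem (hg3 _ ?_) (mul_mem (pow_mem (hg3 _ ?_) _) (pow_mem (hg3 _ ?_) _))) (hg3 _ ?_)))
      (pow_mem (hg3 _ ?_) _) <;> simp
  let β : W →* Q ⧸ Z := MonoidHom.mk' y fun a b => hall b a
  have hinj : Function.Injective β := by
    rw [injective_iff_map_eq_one]
    intro w hw
    exact co_injective (a₂ := 1) (qword_inj ε hε (co w) ((hxq _ _).1 (hw.trans hx1.symm)))
  have hcard : Nat.card (Q ⧸ Z) = Nat.card W := by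
    have h1 : Nat.card ι.range = 128 := by
      rw [← card_W]; exact (Nat.card_congr (MonoidHom.ofInjective hι).toEquiv).symm
    have hQc : Nat.card Q = 256 := by
      have := relIndex_mul_relIndex ⊥ ι.range Q bot_le le_normalizer
      rw [relIndex_bot_left, relIndex_bot_left, hidx, h1] at this
      omega
    have hZc : Nat.card Z = 2 := by
      rw [← hZ2]
      exact Nat.card_congr (subgroupOfEquivOfLe
        (le_trans (center_le_normalizer _) le_rfl : Subgroup.center S ≤ Q)).toEquiv
    have := Z.card_eq_card_quotient_mul_card_subgroup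
    rw [hQc, hZc] at this
    rw [card_W]
    omega
  exact ⟨MulEquiv.ofBijective β ((Nat.bijective_iff_injective_and_card β).2 ⟨hinj, hcard.symm⟩)⟩

end Cfsg.Agent.Lib.D8Wreath
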